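import Cfsg.Agent.TwoGroup.Subgroups

/-! The central quotient of a 2-group of maximal class is dihedral. -/

set_option autoImplicit false

namespace CfsgLib.TwoGroup

variable {G : Type*} [Group G]

theorem Frame.nonempty_centralQuotient_dihedral {n : ℕ} {r s : ZMod (2 ^ n)}
    (F : Frame G (2 ^ n) r s) (hn : 2 ≤ n) (hr : MaxType n r) :
    Nonempty (G ⧸ Subgroup.center G ≃* DihedralGroup (2 ^ (n - 1))) := by
  have hfin := F.finite
  set π := QuotientGroup.mk' (Subgroup.center G)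
  have hπ : ∀ g, π g = 1 ↔ g = 1 ∨ g = F.e (half n) := fun g =>
    (QuotientGroup.eq_one_iff g).trans (F.mem_center_of_maxType hn hr)
  have hxz : π (F.e (half n)) = 1 := (hπ _).mpr (Or.inr rfl)
  have hord : orderOf (π (F.e 1)) = 2 ^ (n - 1) := by
    obtain ⟨k, rfl⟩ : ∃ k, n = k + 2 := ⟨n - 2, by omega⟩
    rw [show k + 2 - 1 = k + 1 by omega]
    refine orderOf_eq_prime_pow ?_ ?_
    · rw [← map_pow, hπ, ← F.map_nsmul, mul_one, F.e_eq_one, F.e_inj]
      push_cast
      rintro (h | h)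
      · exact two_pow_ne_zero (n := k + 2) (k := k) (by omega) h
      · rw [half, show k + 2 - 1 = k + 1 by omega] at h
        apply two_pow_ne_zero (n := k + 2) (k := k) (by omega)
        linear_combination -h - pow_succ (2 : ZMod (2 ^ (k + 2))) k
    · rw [← map_pow, hπ, ← F.map_nsmul, mul_one, F.e_inj]
      refine Or.inr ?_
      rw [half, show k + 2 - 1 = k + 1 by omega]
      push_cast; rfl
  have hcard : Nat.card (G ⧸ Subgroup.center G) = 2 * 2 ^ (n - 1) := by
    have h := (Subgroup.center G).card_eq_card_quotient_mul_card_subgroup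
    rw [F.card_center_of_maxType hn hr, F.card_eq] at h
    rw [← pow_succ', show n - 1 + 1 = n by omega]
    omega
  have hy : π F.y ∉ Subgroup.zpowers (π (F.e 1)) := by
    rintro ⟨k, hk⟩
    simp only [← map_zpow, ← F.map_zsmul, mul_one] at hk
    have h1 : π ((F.e (k : ZMod (2 ^ n)))⁻¹ * F.y) = 1 := by rw [map_mul, map_inv, hk, inv_mul_cancel]
    rw [← F.map_neg, hπ] at h1
    rcases h1 with h1 | h1
    · exact F.e_ne_ey 0 _ (h1.trans F.map_zero.symm).symm
    · exact F.e_ne_ey _ _ h1.symm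
  have hr' : π F.y * π (F.e 1) * (π F.y)⁻¹ = π (F.e 1) ^ (-1 : ℤ) := by
    rw [← map_inv, ← map_mul, ← map_mul, ← map_zpow, zpow_neg, zpow_one, ← mul_inv_eq_one,
      ← map_inv, ← map_mul, hπ, inv_inv, F.conj_y, mul_inv_cancel_right, F.e_mul_e, F.e_eq_one,
      F.e_inj, mul_one]
    rcases hr with rfl | ⟨-, rfl⟩
    · exact Or.inl (by ring)
    · exact Or.inr (by ring)
  have hs' : π F.y * π F.y = π (F.e 1) ^ (0 : ℤ) := by
    rw [zpow_zero, ← map_mul, hπ, F.y_sq, F.e_eq_one, F.e_inj]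
    exact (two_mul_eq_zero_iff (by omega)).mp (hr.two_mul_eq_zero F.r_mul_s)
  exact ⟨(((Frame.ofGen (π (F.e 1)) (π F.y) (2 ^ (n - 1)) hord hcard hy (-1) 0 hr' hs').congr
    (by push_cast; rfl) (by push_cast; rfl)) : Frame (G ⧸ Subgroup.center G) (2 ^ (n - 1)) (-1) 0).mulEquiv
      (dihedralFrame _)⟩

end CfsgLib.TwoGroup
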