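import Mathlib

/-! Conjugation on a cyclic normal subgroup, as a homomorphism to `(ZMod N)ˣ`. -/

set_option autoImplicit false

namespace CfsgLib.TwoGroup

variable {G : Type*} [Group G]

theorem zpow_eq_zpow_iff_cast {u : G} {N : ℕ} (hu : orderOf u = N) (a b : ℤ) :
    u ^ a = u ^ b ↔ (a : ZMod N) = b := by
  rw [zpow_eq_zpow_iff_modEq, hu, ZMod.intCast_eq_intCast_iff]

/-- The action by conjugation on a cyclic normal subgroup. -/
theorem exists_cyclicAction {u : G} {N : ℕ} (hu : orderOf u = N)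
    (hn : (Subgroup.zpowers u).Normal) :
    ∃ ψ : G →* (ZMod N)ˣ, (∀ (g : G) (k : ℤ), ((ψ g : ZMod N) = k ↔ g * u * g⁻¹ = u ^ k)) ∧
      ψ.ker = Subgroup.centralizer (Subgroup.zpowers u : Set G) := by
  have h : ∀ g : G, ∃ k : ℤ, g * u * g⁻¹ = u ^ k := fun g => by
    obtain ⟨k, hk⟩ := hn.conj_mem u (Subgroup.mem_zpowers u) g
    exact ⟨k, hk.symm⟩
  choose f hf using h
  let χ : G →* ZMod N :=
    { toFun := fun g => (f g : ZMod N)
      map_one' := by
        rw [← Int.cast_one, ← zpow_eq_zpow_iff_cast hu, ← hf]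
        group
      map_mul' := fun a b => by
        rw [← Int.cast_mul, ← zpow_eq_zpow_iff_cast hu, ← hf, zpow_mul, ← hf a,
          conj_zpow, ← hf b]
        group }
  refine ⟨χ.toHomUnits, fun g k => ?_, ?_⟩
  · show (f g : ZMod N) = k ↔ _
    rw [← zpow_eq_zpow_iff_cast hu, hf g]
  · ext g
    rw [MonoidHom.mem_ker, Units.ext_iff, Units.val_one, MonoidHom.coe_toHomUnits]
    show (f g : ZMod N) = 1 ↔ _
    rw [← Int.cast_one, ← zpow_eq_zpow_iff_cast hu, ← hf g, zpow_one, mul_inv_eq_iff_eq_mul,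
      Subgroup.mem_centralizer_iff]
    constructor
    · rintro hg _ ⟨k, rfl⟩
      exact ((show Commute g u from hg).zpow_right k).eq.symm
    · intro hg
      exact (hg u (Subgroup.mem_zpowers u)).symm

theorem conj_zpow_of_action {u : G} {N : ℕ} {ψ : G →* (ZMod N)ˣ}
    (hψ : ∀ (g : G) (k : ℤ), ((ψ g : ZMod N) = k ↔ g * u * g⁻¹ = u ^ k)) (g : G) (k : ℤ) :
    ∃ a : ℤ, (a : ZMod N) = ψ g ∧ g * u ^ k * g⁻¹ = u ^ (a * k) := by
  obtain ⟨a, ha⟩ := ZMod.intCast_surjective (ψ g : ZMod N)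
  exact ⟨a, ha, by rw [← conj_zpow, (hψ g a).1 ha.symm, zpow_mul]⟩

end CfsgLib.TwoGroup
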