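import Cfsg.Agent.TwoGroup.MaximalClass
import Cfsg.Agent.TwoGroup.UniqueInvolution
import Cfsg.Agent.TwoGroup.CyclicNormal
import Cfsg.Agent.PGroup.Omega
import Cfsg.Agent.PGroup.Abelian

/-! Cyclic self-centralizing normal subgroups of 2-groups; 2-groups of normal rank one. -/

set_option autoImplicit false

namespace CfsgLib.TwoGroup

variable {G : Type*} [Group G]

theorem half_mul_half {n : ℕ} (hn : 3 ≤ n) : half n * half n = 0 := by
  rw [half, ← pow_add]; exact two_pow_eq_zero n (by omega)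

theorem units_zmod_two_subsingleton : ∀ a b : (ZMod (2 ^ 1))ˣ, a = b := by decide

/-- A square in `ZMod (2 ^ n)` is not congruent to `-1` modulo `4`. -/
theorem sq_ne_neg_one_type {n : ℕ} (hn : 2 ≤ n) (k : ZMod (2 ^ n)) :
    k * k ≠ -1 ∧ (3 ≤ n → k * k ≠ -1 + half n) := by
  have hd : 4 ∣ 2 ^ n := by
    rw [show (4 : ℕ) = 2 ^ 2 by norm_num]; exact pow_dvd_pow 2 hn
  have key : ∀ x : ZMod 4, x * x ≠ -1 := by decide
  refine ⟨fun h => key (ZMod.castHom hd (ZMod 4) k) ?_, fun h3 h => key (ZMod.castHom hd (ZMod 4) k) ?_⟩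
  · rw [← map_mul, h, map_neg, map_one]
  · rw [← map_mul, h, map_add, map_neg, map_one, half, map_pow, map_ofNat,
      show n - 1 = 2 + (n - 3) by omega, pow_add]
    rw [show (2 : ZMod 4) ^ 2 = 0 by decide, zero_mul, add_zero]

/-- A cyclic self-centralizing normal subgroup on which no element induces `1 + 2 ^ (n - 1)`. -/
theorem isMaxClassType_of_selfCentralizing [Finite G] (h2 : IsPGroup 2 G) {u : G} {n : ℕ}
    (hu : orderOf u = 2 ^ n) (hn : (Subgroup.zpowers u).Normal)
    (hC : Subgroup.centralizer (Subgroup.zpowers u : Set G) = Subgroup.zpowers u)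
    (hne : Subgroup.zpowers u ≠ ⊤)
    (hno : 3 ≤ n → ∀ g : G, g * u * g⁻¹ ≠ u ^ (1 + 2 ^ (n - 1))) :
    2 ≤ n ∧ Nat.card G = 2 ^ (n + 1) ∧ IsMaxClassType G := by
  have : Fact (Nat.Prime 2) := ⟨Nat.prime_two⟩
  obtain ⟨ψ, hψ, hker⟩ := exists_cyclicAction hu hn
  rw [hC] at hker
  have hn2 : 2 ≤ n := by
    by_contra h
    apply hne
    have h01 : n = 0 ∨ n = 1 := by omega
    have : Subsingleton (ZMod (2 ^ n))ˣ := by
      rcases h01 with rfl | rfl
      · show Subsingleton (ZMod 1)ˣ; infer_instance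
      · exact ⟨units_zmod_two_subsingleton⟩
    rw [← hker, eq_top_iff]
    exact fun g _ => Subsingleton.elim _ _
  have hsq : ∀ g : G, ψ g * ψ g = 1 →
      (ψ g : ZMod (2 ^ n)) = 1 ∨ (ψ g : ZMod (2 ^ n)) = -1 ∨
        (3 ≤ n ∧ (ψ g : ZMod (2 ^ n)) = -1 + half n) := by
    intro g hg
    have hg' : (ψ g : ZMod (2 ^ n)) * ψ g = 1 := by rw [← Units.val_mul, hg, Units.val_one]
    rcases sq_eq_one hn2 hg' with h | h | h | h
    · exact Or.inl h
    · exact Or.inr (Or.inl h)
    · rcases Nat.eq_or_lt_of_le hn2 with rfl | h3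
      · exact Or.inr (Or.inl (h.trans (by decide)))
      · refine absurd ?_ (hno h3 g)
        have h' := (hψ g (1 + 2 ^ (n - 1) : ℕ)).1 (by rw [h, Int.cast_natCast, Nat.cast_add, natCast_half, Nat.cast_one])
        rwa [zpow_natCast] at h'
    · rcases Nat.eq_or_lt_of_le hn2 with rfl | h3
      · exact Or.inl (h.trans (by decide))
      · exact Or.inr (Or.inr ⟨h3, h⟩)
  -- the image has exponent two
  have hexp : ∀ (j : ℕ) (g : G), ψ g ^ (2 ^ j) = 1 → ψ g * ψ g = 1 := by
    intro j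
    induction j with
    | zero => intro g hg; rw [pow_zero, pow_one] at hg; rw [hg, one_mul]
    | succ j ih =>
      intro g hg
      have h4 : ψ (g * g) * ψ (g * g) = 1 := ih (g * g) (by
        rw [map_mul, ← pow_two, ← pow_mul, ← pow_succ']; exact hg)
      rw [← map_mul]
      rcases hsq (g * g) h4 with h | h | ⟨h3, h⟩
      · exact Units.ext h
      · exact absurd (by rw [← Units.val_mul, ← map_mul]; exact h) (sq_ne_neg_one_type hn2 (ψ g)).1
      · exact absurd (by rw [← Units.val_mul, ← map_mul]; exact h)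
          ((sq_ne_neg_one_type hn2 (ψ g)).2 h3)
  have hall : ∀ g : G, ψ g * ψ g = 1 := fun g => by
    obtain ⟨j, hj⟩ := h2 g
    exact hexp j g (by rw [← map_pow, hj, map_one])
  have htwo : ∀ g h : G, g ∉ Subgroup.zpowers u → h ∉ Subgroup.zpowers u →
      g * h ∈ Subgroup.zpowers u := by
    intro g h hg hh
    rw [← hker, MonoidHom.mem_ker, map_mul] at *
    have hgh := hsq (g * h) (hall _)
    rcases hsq g (hall g) with e | e | ⟨h3, e⟩
    · exact absurd (Units.ext e) hg
    · rcases hsq h (hall h) with e' | e' | ⟨h3', e'⟩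
      · exact absurd (Units.ext e') hh
      · exact Units.ext (by rw [Units.val_mul, e, e', Units.val_one]; ring)
      · exfalso
        rw [map_mul, Units.val_mul, e, e'] at hgh
        rcases hgh with q | q | ⟨-, q⟩
        · exact half_ne_zero (n := n) (by omega) (by linear_combination -q)
        · exact (neg_one_add_half_ne (n := n) h3').1 (by linear_combination -q)
        · exact two_pow_ne_zero (n := n) (k := 1) (by omega)
            (by linear_combination q + two_mul_half (n := n) (by omega))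
    · rcases hsq h (hall h) with e' | e' | ⟨h3', e'⟩
      · exact absurd (Units.ext e') hh
      · exfalso
        rw [map_mul, Units.val_mul, e, e'] at hgh
        rcases hgh with q | q | ⟨-, q⟩
        · exact half_ne_zero (n := n) (by omega) (by linear_combination -q)
        · exact (neg_one_add_half_ne (n := n) h3).1 (by linear_combination -q)
        · exact two_pow_ne_zero (n := n) (k := 1) (by omega)
            (by linear_combination q + two_mul_half (n := n) (by omega))
      · exact Units.ext (by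
          rw [Units.val_mul, e, e', Units.val_one]
          linear_combination half_mul_half (n := n) h3 - two_mul_half (n := n) (by omega))
  have hidx : (Subgroup.zpowers u).index = 2 := by
    obtain ⟨a, ha⟩ : ∃ a, a ∉ Subgroup.zpowers u := by
      by_contra hc; exact hne (eq_top_iff.2 fun g _ => not_not.1 (not_exists.1 hc g))
    refine Subgroup.index_eq_two_iff.2 ⟨a, fun b => ?_⟩
    by_cases hb : b ∈ Subgroup.zpowers u
    · exact Or.inr ⟨hb, fun h => ha (by simpa using mul_mem (inv_mem hb) h)⟩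
    · exact Or.inl ⟨htwo b a hb ha, hb⟩
  have hG : Nat.card G = 2 ^ (n + 1) := by
    rw [← (Subgroup.zpowers u).card_mul_index, Nat.card_zpowers, hu, hidx, pow_succ]
  have hnc : ¬ IsMulCommutative G := fun hc => hne (by
    rw [← hC, eq_top_iff]
    exact fun g _ => Subgroup.mem_centralizer_iff.2 fun h _ => hc.is_comm.comm h g)
  refine ⟨hn2, hG, ?_⟩
  obtain ⟨-, r, s, F, hrot, ⟨hr, hs⟩ | ⟨hr, hs⟩ | ⟨h3, hr, hs⟩ | ⟨h3, hr, -⟩⟩ :=
    classify_cyclic_index_two u hu hG hnc
  · exact ⟨n, hn2, Or.inl ⟨F.congr hr hs⟩⟩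
  · exact ⟨n, hn2, Or.inr (Or.inl ⟨F.congr hr hs⟩)⟩
  · exact ⟨n, hn2, Or.inr (Or.inr ⟨h3, ⟨F.congr hr hs⟩⟩)⟩
  · exfalso
    obtain ⟨i, hi⟩ := F.mem_rot.1 (hrot ▸ Subgroup.mem_zpowers u)
    refine hno h3 F.y ?_
    rw [hi, F.conj_y, mul_inv_cancel_right, ← F.map_nsmul]
    refine congrArg (fun k => F.e (k * i)) ?_
    rw [Nat.cast_add, natCast_half, Nat.cast_one]
    exact hr

/-- The elements of order two of the modular group form a four-group. -/
theorem omega_of_modular {n : ℕ} (hn : 3 ≤ n) (F : Frame G (2 ^ n) (1 + half n) 0) :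
    Cfsg.IsElementaryAbelian 2 (Cfsg.omegaOne 2 (⊤ : Subgroup G)) ∧
      Nat.card (Cfsg.omegaOne 2 (⊤ : Subgroup G)) = 4 := by
  have hh : ∀ i : ZMod (2 ^ n), i + i = 0 → i = 0 ∨ i = half n := fun i hi =>
    (add_self_eq_zero_iff' (by omega)).1 hi
  have hhh : half n + half n = 0 := half_add_half (by omega)
  have hr : (1 + half n) * half n = half n := by
    linear_combination half_mul_half (n := n) hn
  let E : Subgroup G :=
    { carrier := {g | ∃ i, (i = 0 ∨ i = half n) ∧ (g = F.e i ∨ g = F.e i * F.y)}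
      one_mem' := ⟨0, Or.inl rfl, Or.inl F.map_zero.symm⟩
      mul_mem' := by
        rintro a b ⟨i, hi, ha⟩ ⟨j, hj, hb⟩
        have hij : i + j = 0 ∨ i + j = half n := by
          rcases hi with rfl | rfl <;> rcases hj with rfl | rfl <;> simp [hhh]
        have hrj : (1 + half n) * j = j := by rcases hj with rfl | rfl <;> simp [hr]
        rcases ha with rfl | rfl <;> rcases hb with rfl | rfl
        · exact ⟨_, hij, Or.inl (F.e_mul_e i j)⟩
        · exact ⟨_, hij, Or.inr (F.e_mul_ey i j)⟩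
        · exact ⟨_, hij, Or.inr (by rw [F.ey_mul_e, hrj])⟩
        · exact ⟨_, hij, Or.inl (by rw [F.ey_mul_ey, hrj, add_zero])⟩
      inv_mem' := by
        rintro a ⟨i, hi, ha⟩
        have hii : i + i = 0 := by rcases hi with rfl | rfl <;> simp [hhh]
        have hri : (1 + half n) * i = i := by rcases hi with rfl | rfl <;> simp [hr]
        rcases ha with rfl | rfl
        · exact ⟨i, hi, Or.inl (inv_eq_of_mul_eq_one_right (by rw [F.e_mul_e, hii, F.map_zero]))⟩
        · exact ⟨i, hi, Or.inr (inv_eq_of_mul_eq_one_right (by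
            rw [F.ey_mul_ey, hri, add_zero, hii, F.map_zero]))⟩ }
  have hmem : ∀ g : G, g ^ 2 = 1 ↔ g ∈ E := by
    intro g
    constructor
    · intro hg
      obtain ⟨i, rfl | rfl⟩ := F.cover g
      · refine ⟨i, hh i ?_, Or.inl rfl⟩
        rwa [pow_two, F.e_mul_e, F.e_eq_one] at hg
      · refine ⟨i, hh i ?_, Or.inr rfl⟩
        rw [pow_two, F.ey_mul_ey, add_zero, F.e_eq_one] at hg
        linear_combination (1 - (2 : ZMod (2 ^ n)) ^ (n - 2)) * hg - i * two_add_half_mul hn
    · rintro ⟨i, hi, hg⟩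
      have hii : i + i = 0 := by rcases hi with rfl | rfl <;> simp [hhh]
      have hri : (1 + half n) * i = i := by rcases hi with rfl | rfl <;> simp [hr]
      rcases hg with rfl | rfl
      · rw [pow_two, F.e_mul_e, hii, F.map_zero]
      · rw [pow_two, F.ey_mul_ey, hri, add_zero, hii, F.map_zero]
  have hE : Cfsg.omegaOne 2 (⊤ : Subgroup G) = E :=
    le_antisymm ((Subgroup.closure_le _).2 fun g hg => (hmem g).1 hg.2)
      fun g hg => CfsgLib.PGroup.mem_omegaOne trivial ((hmem g).2 hg)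
  have hsq : ∀ g ∈ E, g * g = 1 := fun g hg => by rw [← pow_two]; exact (hmem g).2 hg
  rw [hE]
  refine ⟨⟨isMulCommutative_iff.2 fun a b => Subtype.ext ?_, fun a ha => (hmem a).2 ha⟩, ?_⟩
  · have ea := inv_eq_of_mul_eq_one_right (hsq a a.2)
    have eb := inv_eq_of_mul_eq_one_right (hsq b b.2)
    have eab := inv_eq_of_mul_eq_one_right (hsq (a * b : G) (mul_mem a.2 b.2))
    rw [mul_inv_rev, ea, eb] at eab
    exact eab.symm
  · classical
    have hne : half n ≠ 0 := half_ne_zero (by omega)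
    have hset : (E : Set G) = {F.e 0, F.e (half n), F.e 0 * F.y, F.e (half n) * F.y} := by
      ext g
      simp only [Set.mem_insert_iff, Set.mem_singleton_iff]
      constructor
      · rintro ⟨i, rfl | rfl, rfl | rfl⟩ <;> simp
      · rintro (rfl | rfl | rfl | rfl)
        exacts [⟨0, Or.inl rfl, Or.inl rfl⟩, ⟨_, Or.inr rfl, Or.inl rfl⟩, ⟨0, Or.inl rfl, Or.inr rfl⟩,
          ⟨_, Or.inr rfl, Or.inr rfl⟩]
    show Nat.card (E : Set G) = 4
    rw [hset, Nat.card_coe_set_eq, Set.ncard_insert_of_notMem, Set.ncard_insert_of_notMem,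
      Set.ncard_pair]
    · exact fun h => hne (F.ey_inj.1 h).symm
    · simp only [Set.mem_insert_iff, Set.mem_singleton_iff, not_or]
      exact ⟨F.e_ne_ey _ _, F.e_ne_ey _ _⟩
    · simp only [Set.mem_insert_iff, Set.mem_singleton_iff, not_or]
      exact ⟨fun h => hne (F.e_inj.1 h).symm, F.e_ne_ey _ _, F.e_ne_ey _ _⟩

/-- The centraliser of `u²` when some element induces `1 + 2 ^ (n - 1)` on `⟨u⟩`. -/
theorem omega_of_modular_action [Finite G] {u g : G} {n : ℕ} (hn3 : 3 ≤ n)
    (hu : orderOf u = 2 ^ n) (hn : (Subgroup.zpowers u).Normal)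
    (hC : Subgroup.centralizer (Subgroup.zpowers u : Set G) = Subgroup.zpowers u)
    (hg : g * u * g⁻¹ = u ^ (1 + 2 ^ (n - 1))) :
    Cfsg.IsElementaryAbelian 2 (Cfsg.omegaOne 2 (Subgroup.centralizer ({u ^ 2} : Set G))) ∧
      Nat.card (Cfsg.omegaOne 2 (Subgroup.centralizer ({u ^ 2} : Set G))) = 4 ∧
      (Subgroup.zpowers u).relIndex (Subgroup.centralizer ({u ^ 2} : Set G)) = 2 ∧
      (Subgroup.centralizer ({u ^ 2} : Set G)).Normal := by
  obtain ⟨ψ, hψ, hker⟩ := exists_cyclicAction hu hn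
  rw [hC] at hker
  have hone : half n ≠ 0 := half_ne_zero (by omega)
  have hψg : (ψ g : ZMod (2 ^ n)) = 1 + half n := by
    rw [(hψ g (1 + 2 ^ (n - 1) : ℕ)).2 (by rw [zpow_natCast]; exact hg), Int.cast_natCast,
      Nat.cast_add, natCast_half, Nat.cast_one]
  set M := Subgroup.centralizer ({u ^ 2} : Set G)
  have hMmem : ∀ x : G, x ∈ M ↔ (ψ x : ZMod (2 ^ n)) * 2 = 2 := by
    intro x
    obtain ⟨a, ha, e⟩ := conj_zpow_of_action hψ x 2
    rw [Subgroup.mem_centralizer_singleton_iff, ← ha, show u ^ 2 = u ^ (2 : ℤ) by norm_cast,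
      ← mul_inv_eq_iff_eq_mul, e, zpow_eq_zpow_iff_cast hu]
    push_cast
    rfl
  have hMnormal : M.Normal := ⟨fun x hx y => (hMmem _).2 (by
    rw [map_mul, map_mul, mul_right_comm, map_inv, mul_inv_cancel, one_mul]
    exact (hMmem x).1 hx)⟩
  have hMcases : ∀ x ∈ M, x ∈ Subgroup.zpowers u ∨ x * g⁻¹ ∈ Subgroup.zpowers u := by
    intro x hx
    rw [hMmem] at hx
    have : ((ψ x : ZMod (2 ^ n)) - 1) * 2 = 0 := by linear_combination hx
    rcases (two_mul_eq_zero_iff (n := n) (by omega)).1 (show (2 : ZMod (2 ^ n)) * ((ψ x : ZMod (2 ^ n)) - 1) = 0 by linear_combination this) with h | h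
    · left; rw [← hker, MonoidHom.mem_ker]; exact Units.ext (by rw [Units.val_one]; linear_combination h)
    · right
      rw [← hker, MonoidHom.mem_ker, map_mul, map_inv, mul_inv_eq_one]
      exact Units.ext (by rw [hψg]; linear_combination h)
  have hUM : Subgroup.zpowers u ≤ M := Subgroup.zpowers_le.2 (Subgroup.mem_centralizer_singleton_iff.2
    ((Commute.refl u).pow_right 2).eq)
  have hgM : g ∈ M := (hMmem g).2 (by
    rw [hψg]; linear_combination two_mul_half (n := n) (by omega))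
  have hgU : g ∉ Subgroup.zpowers u := fun h => hone (by
    rw [← hker, MonoidHom.mem_ker] at h
    rw [h, Units.val_one] at hψg
    linear_combination -hψg)
  have hidx : (Subgroup.zpowers u).relIndex M = 2 := by
    refine Subgroup.index_eq_two_iff.2 ⟨⟨g, hgM⟩, fun b => ?_⟩
    simp only [Subgroup.mem_subgroupOf, Subgroup.coe_mul]
    rcases hMcases b b.2 with hb | hb
    · exact Or.inr ⟨hb, fun h => hgU (by simpa using mul_mem (inv_mem hb) h)⟩
    · refine Or.inl ⟨?_, fun h => hgU (by simpa using mul_mem (inv_mem hb) h)⟩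
      have e : (b : G) * g = (b * g⁻¹) * (g * g) := by group
      rw [e]
      refine mul_mem hb ?_
      rw [← hker, MonoidHom.mem_ker, map_mul]
      refine Units.ext ?_
      rw [Units.val_mul, hψg, Units.val_one]
      linear_combination half_mul_half (n := n) hn3 + two_mul_half (n := n) (by omega)
  have hMc : Nat.card M = 2 ^ (n + 1) := by
    rw [← ((Subgroup.zpowers u).subgroupOf M).card_mul_index]
    rw [Nat.card_congr (Subgroup.subgroupOfEquivOfLe hUM).toEquiv, Nat.card_zpowers, hu]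
    rw [show ((Subgroup.zpowers u).subgroupOf M).index = 2 from hidx, pow_succ]
  have hnc : ¬ IsMulCommutative M := fun hc => hgU (by
    rw [← hC, Subgroup.mem_centralizer_iff]
    intro k hk
    exact congrArg Subtype.val (hc.is_comm.comm ⟨k, hUM hk⟩ ⟨g, hgM⟩))
  have hu' : orderOf (⟨u, hUM (Subgroup.mem_zpowers u)⟩ : M) = 2 ^ n := by
    rw [← Subgroup.orderOf_coe]; exact hu
  obtain ⟨-, r, s, F, hrot, hcases⟩ :=
    classify_cyclic_index_two (⟨u, hUM (Subgroup.mem_zpowers u)⟩ : M) hu' hMc hnc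
  have hmod : r = 1 + half n ∧ s = 0 := by
    obtain ⟨i, hi⟩ := F.mem_rot.1 (hrot ▸ Subgroup.mem_zpowers _)
    have hy := F.y_notMem_rot
    rw [hrot] at hy
    have hyU : (F.y : G) ∉ Subgroup.zpowers u := fun h => hy (by
      obtain ⟨k, hk⟩ := h
      exact ⟨k, Subtype.ext hk⟩)
    have hψy : (ψ (F.y : G) : ZMod (2 ^ n)) = 1 + half n := by
      rcases hMcases _ F.y.2 with h | h
      · exact absurd h hyU
      · rw [← hker, MonoidHom.mem_ker, map_mul, map_inv, mul_inv_eq_one] at h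
        rw [h, hψg]
    obtain ⟨a, ha⟩ := ZMod.intCast_surjective r
    have hr1 : (ψ (F.y : G) : ZMod (2 ^ n)) = r := by
      refine Eq.trans ?_ ha
      rw [hψ]
      have e : F.y * (⟨u, hUM (Subgroup.mem_zpowers u)⟩ : M) * F.y⁻¹ =
          (⟨u, hUM (Subgroup.mem_zpowers u)⟩ : M) ^ a := by
        rw [hi, F.conj_y, mul_inv_cancel_right, ← F.map_zsmul, ha]
      simpa using congrArg Subtype.val e
    rw [hψy] at hr1
    rcases hcases with ⟨hr, -⟩ | ⟨hr, -⟩ | ⟨h3, hr, -⟩ | ⟨h3, hr, hs⟩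
    · exact absurd (show (2 : ZMod (2 ^ n)) ^ 1 = 0 by
        linear_combination (1 - (2 : ZMod (2 ^ n)) ^ (n - 2)) * (hr1 + hr) - two_add_half_mul hn3)
        (two_pow_ne_zero (n := n) (k := 1) (by omega))
    · exact absurd (show (2 : ZMod (2 ^ n)) ^ 1 = 0 by
        linear_combination (1 - (2 : ZMod (2 ^ n)) ^ (n - 2)) * (hr1 + hr) - two_add_half_mul hn3)
        (two_pow_ne_zero (n := n) (k := 1) (by omega))
    · exact absurd (show (2 : ZMod (2 ^ n)) ^ 1 = 0 by linear_combination hr1 + hr)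
        (two_pow_ne_zero (n := n) (k := 1) (by omega))
    · exact ⟨hr, hs⟩
  have key := omega_of_modular hn3 (F.congr hmod.1 hmod.2)
  have hmap : Cfsg.omegaOne 2 M = (Cfsg.omegaOne 2 (⊤ : Subgroup M)).map M.subtype := by
    rw [CfsgLib.PGroup.omegaOne_map _ M.subtype_injective, ← MonoidHom.range_eq_map,
      Subgroup.range_subtype]
  refine ⟨?_, ?_, hidx, hMnormal⟩
  · rw [hmap]
    refine ⟨isMulCommutative_iff.2 fun a b => Subtype.ext ?_, ?_⟩
    · obtain ⟨a', ha', ea⟩ := a.2
      obtain ⟨b', hb', eb⟩ := b.2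
      show (a : G) * b = b * a
      rw [← ea, ← eb, ← map_mul, ← map_mul]
      exact congrArg _ (congrArg Subtype.val (isMulCommutative_iff.1 key.1.1 ⟨a', ha'⟩ ⟨b', hb'⟩))
    · rintro _ ⟨a, ha, rfl⟩
      rw [← map_pow, key.1.2 a ha, map_one]
  · rw [hmap, Subgroup.card_map_of_injective M.subtype_injective]
    exact key.2

/-- A non-cyclic 2-group in which every abelian normal subgroup is cyclic has maximal class. -/
theorem isMaxClassType_of_normal_rank_one [Finite G] (h2 : IsPGroup 2 G) (hnc : ¬ IsCyclic G)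
    (hcyc : ∀ A : Subgroup G, A.Normal → IsMulCommutative A → IsCyclic A) : IsMaxClassType G := by
  have : Fact (Nat.Prime 2) := ⟨Nat.prime_two⟩
  obtain ⟨A, -, hA⟩ := CfsgLib.PGroup.exists_maximal_normal_abelian (A₀ := (⊥ : Subgroup G))
    (IsMulCommutative.of_comm fun _ _ => Subsingleton.elim _ _)
  have hCA := CfsgLib.PGroup.centralizer_eq_of_maximal_normal_abelian h2 hA
  have hAn : A.Normal := hA.1.1
  obtain ⟨u₀, hu₀⟩ := (hcyc A hAn hA.1.2).exists_generator
  obtain ⟨u, hu, hAu⟩ : ∃ u : G, u ∈ A ∧ A = Subgroup.zpowers u :=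
    ⟨u₀, u₀.2, le_antisymm (fun a ha => by
      obtain ⟨k, hk⟩ := hu₀ ⟨a, ha⟩
      exact ⟨k, by simpa using congrArg Subtype.val hk⟩) (Subgroup.zpowers_le.2 u₀.2)⟩
  clear hu₀ u₀
  subst hAu
  obtain ⟨n, hn⟩ := IsPGroup.iff_orderOf.1 h2 u
  have hne : Subgroup.zpowers u ≠ ⊤ := fun h => hnc ⟨u, fun g => Subgroup.mem_zpowers_iff.1 (h.symm ▸ Subgroup.mem_top g : g ∈ Subgroup.zpowers u)⟩
  refine (isMaxClassType_of_selfCentralizing h2 hn hAn hCA hne fun h3 g hg => ?_).2.2
  obtain ⟨hE, hEc, -, hMn⟩ := omega_of_modular_action h3 hn hAn hCA hg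
  have hEn : (Cfsg.omegaOne 2 (Subgroup.centralizer ({u ^ 2} : Set G))).Normal := by
    haveI := hMn; exact CfsgLib.PGroup.omegaOne_normal
  haveI := hcyc _ hEn hE.1
  have := IsCyclic.exponent_eq_card
    (α := ↥(Cfsg.omegaOne 2 (Subgroup.centralizer ({u ^ 2} : Set G))))
  have hd := Monoid.exponent_dvd_of_forall_pow_eq_one
    (G := ↥(Cfsg.omegaOne 2 (Subgroup.centralizer ({u ^ 2} : Set G))))
    (n := 2) fun a => Subtype.ext (by simpa using hE.2 a a.2)
  rw [this, hEc] at hd
  exact absurd (Nat.le_of_dvd two_pos hd) (by norm_num)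

end CfsgLib.TwoGroup
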